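import Groth.Agent.Hensel.PairNbhd
import Groth.Agent.Hensel.HfpFinite
import Groth.Agent.Hensel.HenselizationProps
import Groth.Agent.Hensel.PairBasic
import Mathlib.RingTheory.Filtration
import Mathlib.RingTheory.Localization.Away.AdjoinRoot

/-!
# Weierstrass preparation in the henselization of `R[t]` along `(t)`, `R` henselian local
-/

universe u

open Polynomial IsLocalRing

namespace Groth.Agent.Weierstrass7

variable {R : Type u} [CommRing R] [HenselianLocalRing R] {B : Type u} [CommRing B] [Algebra R B] [Algebra R[X] B]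
  [IsScalarTower R R[X] B] (hB : Hens2.IsPairHenselization R[X] (Ideal.span {(X : R[X])}) B)

local notation "τ" => algebraMap R[X] B X

/-- An algebra generated by `1` modulo a nilpotent element is finite. -/
theorem finite_of_hone {R : Type u} [CommRing R] {T : Type u} [CommRing T] [Algebra R T] (x : T) (k : ℕ)
    (hx : x ^ k = 0) (hone : ∀ y : T, ∃ (r : R) (y' : T), y = algebraMap R T r + x * y') : Module.Finite R T := by
  classical
  have hiter : ∀ j, ∀ y : T, ∃ p : R[X], ∃ y', y = aeval x p + x ^ j * y' ∧ p ∈ degreeLT R j := by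
    intro j
    induction j with
    | zero => exact fun y => ⟨0, y, by simp, zero_mem _⟩
    | succ j ih =>
      intro y
      obtain ⟨p, y', he, hp⟩ := ih y
      obtain ⟨r, y'', he'⟩ := hone y'
      refine ⟨p + C r * X ^ j, y'', ?_, add_mem (degreeLT_mono j.le_succ hp) ?_⟩
      · rw [he, he', map_add, map_mul, map_pow, aeval_X, aeval_C]; ring
      · rw [mem_degreeLT]
        exact lt_of_le_of_lt (degree_C_mul_X_pow_le _ _) (by exact_mod_cast j.lt_succ_self)
  haveI : Module.Finite R (degreeLT R k) := Module.Finite.equiv (degreeLTEquiv R k).symm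
  refine Module.Finite.of_surjective ((aeval x).toLinearMap.comp (degreeLT R k).subtype) fun y => ?_
  obtain ⟨p, y', he, hp⟩ := hiter k y
  exact ⟨⟨p, hp⟩, by rw [he, hx, zero_mul, add_zero]; rfl⟩

/-- Inverting `g ≡ unit` keeps generation by `1` modulo `x`. -/
theorem hone_of_away {R : Type u} [CommRing R] {U : Type u} [CommRing U] [Algebra R U] {T : Type u} [CommRing T]
    [Algebra R T] (θ : U →ₐ[R] T) (x g : U) (hmodX : ∀ u : U, ∃ r : R, u - algebraMap R U r ∈ Ideal.span {x})
    {c : R} (hc : g - algebraMap R U c ∈ Ideal.span {x}) (hcu : IsUnit c)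
    (hsurj : ∀ y : T, ∃ (u : U) (l : ℕ), y * θ g ^ l = θ u) (y : T) :
    ∃ (r : R) (y' : T), y = algebraMap R T r + θ x * y' := by
  obtain ⟨u, l, hy⟩ := hsurj y
  obtain ⟨r, hr⟩ := hmodX u
  obtain ⟨z, hz⟩ := Ideal.mem_span_singleton'.1 hr
  obtain ⟨zc, hzc⟩ := Ideal.mem_span_singleton'.1 hc
  have e1 : y * θ g ^ l = algebraMap R T r + θ z * θ x := by
    rw [hy, ← θ.commutes r, ← map_mul θ, ← map_add, hz, add_sub_cancel]
  have e2 : θ g = algebraMap R T c + θ zc * θ x := by
    rw [← θ.commutes c, ← map_mul θ, ← map_add, hzc, add_sub_cancel]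
  obtain ⟨q, hq⟩ : θ x ∣ θ g ^ l - algebraMap R T c ^ l := by
    refine dvd_trans ⟨θ zc, ?_⟩ (sub_dvd_pow_sub_pow _ _ l)
    rw [e2]; ring
  have hci : algebraMap R T ↑(hcu.unit⁻¹) ^ l * algebraMap R T c ^ l = 1 := by
    rw [← mul_pow, ← map_mul, IsUnit.val_inv_mul, map_one, one_pow]
  refine ⟨↑(hcu.unit⁻¹) ^ l * r, algebraMap R T ↑(hcu.unit⁻¹) ^ l * (θ z - q * y), ?_⟩
  rw [map_mul, map_pow]
  linear_combination (algebraMap R T ↑(hcu.unit⁻¹) ^ l) * e1 - y * hci - (algebraMap R T ↑(hcu.unit⁻¹) ^ l * y) * hq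

/-- The reduction of the finite type model is finite. -/
theorem finite_red {R : Type u} [CommRing R] {U : Type u} [CommRing U] [Algebra R U] {S : Type u} [CommRing S]
    [Algebra R S] (ρ : U →ₐ[R] S) (m : Ideal R) (x g : U) (k : ℕ)
    (hmodX : ∀ u : U, ∃ r : R, u - algebraMap R U r ∈ Ideal.span {x})
    {c : R} (hc : g - algebraMap R U c ∈ Ideal.span {x}) (hcu : IsUnit c)
    (hxk : ρ x ^ k ∈ m.map (algebraMap R S)) (hsurj : ∀ y : S, ∃ (u : U) (l : ℕ), y * ρ g ^ l = ρ u) :
    Module.Finite R (S ⧸ m.map (algebraMap R S)) := by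
  let θ := (Ideal.Quotient.mkₐ R (m.map (algebraMap R S))).comp ρ
  refine finite_of_hone (θ x) k ?_ (hone_of_away θ x g hmodX hc hcu fun y => ?_)
  · show Ideal.Quotient.mk _ (ρ x) ^ k = 0
    rw [← map_pow, Ideal.Quotient.eq_zero_iff_mem]
    exact hxk
  · obtain ⟨y, rfl⟩ := Ideal.Quotient.mk_surjective y
    obtain ⟨u, l, hy⟩ := hsurj y
    refine ⟨u, l, ?_⟩
    show Ideal.Quotient.mk _ y * Ideal.Quotient.mk _ (ρ g) ^ l = Ideal.Quotient.mk _ (ρ u)
    rw [← hy, map_mul, map_pow]

theorem algebraMap_C (r : R) : algebraMap R[X] B (C r) = algebraMap R B r :=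
  (IsScalarTower.algebraMap_apply R R[X] B r).symm

theorem map_span_X {T : Type u} [CommRing T] (f : R[X] →+* T) :
    (Ideal.span {(X : R[X])}).map f = Ideal.span {f X} := by
  rw [Ideal.map_span, Set.image_singleton]

include hB in
theorem surjective_mod_X (b : B) : ∃ r : R, b - algebraMap R B r ∈ Ideal.span {τ} := by
  obtain ⟨U, _, _, _, hU, φ, s, rfl⟩ := Hensel.exists_of_isPairHenselization _ hB b
  obtain ⟨a, ha⟩ := hU.2 (Ideal.Quotient.mk _ s)
  obtain ⟨a, rfl⟩ := Ideal.Quotient.mk_surjective a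
  rw [Ideal.quotientMap_mk, eq_comm, Ideal.Quotient.eq] at ha
  refine ⟨a.coeff 0, ?_⟩
  have h1 := Hensel.algHom_mem_map _ φ ha
  rw [map_sub, AlgHom.commutes, map_span_X] at h1
  have h2 : algebraMap R[X] B a - algebraMap R B (a.coeff 0) ∈ Ideal.span {τ} := by
    rw [← algebraMap_C (R := R), ← map_sub, Ideal.mem_span_singleton]
    exact map_dvd _ (X_dvd_sub_C)
  have := add_mem h1 h2
  rwa [sub_add_sub_cancel] at this

include hB in
theorem exists_constant : ∃ ε : B →+* R, (∀ r, ε (algebraMap R B r) = r) ∧ ε τ = 0 ∧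
    (∀ b, b - algebraMap R B (ε b) ∈ Ideal.span {τ}) ∧ ∀ b, IsUnit b ↔ IsUnit (ε b) := by
  obtain ⟨ε, hε, -⟩ := hB.2 R ⊥ (evalRingHom 0) Hensel.henselianRing_bot (by
    rw [map_span_X]
    simp)
  have hr : ∀ r, ε (algebraMap R B r) = r := fun r => by
    rw [← algebraMap_C, ← RingHom.comp_apply, hε]; simp
  have hX : ε τ = 0 := by rw [← RingHom.comp_apply, hε]; simp
  have hsub : ∀ b, b - algebraMap R B (ε b) ∈ Ideal.span {τ} := fun b => by
    obtain ⟨r, hr'⟩ := surjective_mod_X hB b
    obtain ⟨z, hz⟩ := Ideal.mem_span_singleton'.1 hr'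
    have e : ε b = r := by
      have := congrArg ε hz
      rw [map_mul, hX, mul_zero, map_sub, hr] at this
      exact sub_eq_zero.1 this.symm
    rwa [e]
  refine ⟨ε, hr, hX, hsub, fun b => ⟨fun h => h.map ε, fun h => ?_⟩⟩
  obtain ⟨z, hz⟩ := Ideal.mem_span_singleton'.1 (hsub b)
  have hjac : Ideal.span {τ} ≤ Ideal.jacobson (⊥ : Ideal B) := by
    have := hB.1.jac
    rwa [map_span_X] at this
  have hu := Ideal.mem_jacobson_bot.1 (hjac (Ideal.mem_span_singleton_self τ)) (z * algebraMap R B ↑h.unit⁻¹)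
  have e : b = (τ * (z * algebraMap R B ↑h.unit⁻¹) + 1) * algebraMap R B (ε b) := by
    rw [add_mul, one_mul, mul_assoc, mul_assoc, ← map_mul, IsUnit.val_inv_mul, map_one, mul_one, mul_comm τ, hz,
      sub_add_cancel]
  rw [e]
  exact hu.mul (h.map _)

include hB in
/-- The henselization is local. -/
theorem isLocalRing : IsLocalRing B := by
  obtain ⟨ε, -, -, -, hu⟩ := exists_constant hB
  haveI : Nontrivial B := ε.domain_nontrivial
  refine IsLocalRing.of_nonunits_add fun a b ha hb => ?_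
  rw [mem_nonunits_iff, hu] at ha hb ⊢
  rw [map_add]
  exact (mem_maximalIdeal _).1 (add_mem ((mem_maximalIdeal (R := R) _).2 ha) ((mem_maximalIdeal (R := R) _).2 hb))

include hB in
/-- Truncation modulo `(m, t ^ n)`. -/
theorem exists_trunc (n : ℕ) :
    ∃ ρ : B →+* (ResidueField R)[X] ⧸ Ideal.span {(X : (ResidueField R)[X]) ^ n},
      ρ.comp (algebraMap R[X] B) = (Ideal.Quotient.mk _).comp (mapRingHom (residue R)) ∧
      ∀ b ∈ (maximalIdeal R).map (algebraMap R B), ρ b = 0 := by
  let T := (ResidueField R)[X] ⧸ Ideal.span {(X : (ResidueField R)[X]) ^ n}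
  let f : R[X] →+* T := (Ideal.Quotient.mk _).comp (mapRingHom (residue R))
  have hH : HenselianRing T (Ideal.span {f X}) := by
    refine Hensel.henselianRing_of_forall_isNilpotent _ fun x hx => ?_
    obtain ⟨z, rfl⟩ := Ideal.mem_span_singleton'.1 hx
    refine (Commute.all z _).isNilpotent_mul_left ⟨n, ?_⟩
    simp only [f, RingHom.comp_apply, coe_mapRingHom, map_X]
    rw [← map_pow, Ideal.Quotient.eq_zero_iff_mem]
    exact Ideal.mem_span_singleton_self _
  obtain ⟨ρ, hρ, -⟩ := hB.2 T (Ideal.span {f X}) f hH (map_span_X f).le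
  refine ⟨ρ, hρ, fun b hb => ?_⟩
  refine RingHom.mem_ker.1 (Ideal.map_le_iff_le_comap.2 (fun r hr => ?_) hb)
  rw [Ideal.mem_comap, RingHom.mem_ker, ← algebraMap_C, ← RingHom.comp_apply, hρ]
  simp only [f, RingHom.comp_apply, coe_mapRingHom, map_C, (residue_eq_zero_iff r).2 hr, map_zero]

include hB in
theorem pow_notMem (i : ℕ) : τ ^ i ∉ (maximalIdeal R).map (algebraMap R B) := by
  intro h
  obtain ⟨ρ, hρ, hm⟩ := exists_trunc hB (i + 1)
  have := hm _ h
  rw [map_pow, ← RingHom.comp_apply, hρ, RingHom.comp_apply, coe_mapRingHom, map_X, ← map_pow,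
    Ideal.Quotient.eq_zero_iff_mem, Ideal.mem_span_singleton] at this
  have h2 := natDegree_le_of_dvd this (pow_ne_zero i X_ne_zero)
  simp at h2

include hB in
/-- A finite type model of a quotient of the henselization, with reduction generated by a nilpotent. -/
theorem finite_of_model {U : Type u} [CommRing U] [Algebra R[X] U] [Algebra R U] [IsScalarTower R R[X] U]
    {Q : Type u} [CommRing Q] [Algebra R Q] (π : B →ₐ[R] Q) (hπ : Function.Surjective π)
    {S : Type u} [CommRing S] [Algebra R S] [Algebra.FiniteType R S] (ρ : U →ₐ[R] S) (ψ : S →ₐ[R] Q)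
    (φ : U →ₐ[R[X]] B) (hψ : ∀ u, ψ (ρ u) = π (φ u))
    (hfinT : Module.Finite R (S ⧸ (maximalIdeal R).map (algebraMap R S))) (k : ℕ)
    (hxk : ρ (algebraMap R[X] U X) ^ k ∈ (maximalIdeal R).map (algebraMap R S)) :
    Module.Finite R Q := by
  classical
  obtain ⟨e, he, he1, hfin⟩ := Hensel.exists_idempotent_finite_of_finite_quotient (maximalIdeal R) (R := S)
  let q : S →ₐ[R] S ⧸ Ideal.span {1 - e} := Ideal.Quotient.mkₐ R _
  haveI : Algebra.IsIntegral R (S ⧸ Ideal.span {1 - e}) := Algebra.IsIntegral.of_finite R _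
  haveI hHD := Hensel.henselianRing_of_isIntegral' (maximalIdeal R) (S ⧸ Ideal.span {1 - e})
  obtain ⟨a, ha⟩ : ∃ a : R[X] →+* S ⧸ Ideal.span {1 - e}, a = (q.comp ρ).toRingHom.comp (algebraMap R[X] U) :=
    ⟨_, rfl⟩
  have hrad : a X ∈ ((maximalIdeal R).map (algebraMap R (S ⧸ Ideal.span {1 - e}))).radical := by
    refine ⟨k, ?_⟩
    have h2 := Ideal.mem_map_of_mem q.toRingHom hxk
    rw [Ideal.map_map, show q.toRingHom.comp (algebraMap R S) = algebraMap R _ from q.comp_algebraMap, map_pow] at h2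
    rw [ha]
    exact h2
  haveI := (Hensel.henselianRing_radical_iff _).2 hHD
  haveI hHt : HenselianRing (S ⧸ Ideal.span {1 - e}) (Ideal.span {a X}) :=
    Hensel.henselianRing_of_le (J := ((maximalIdeal R).map (algebraMap R (S ⧸ Ideal.span {1 - e}))).radical)
      ((Ideal.span_singleton_le_iff_mem _).2 hrad)
  obtain ⟨γ, hγ, -⟩ := hB.2 (S ⧸ Ideal.span {1 - e}) (Ideal.span {a X}) a hHt (map_span_X _).le
  have hψe : ψ (1 - e) = 0 := by
    haveI := isLocalRing hB
    have h1 : ψ (1 - e) ∈ ((maximalIdeal R).map (algebraMap R B)).map π.toRingHom := by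
      have := Ideal.mem_map_of_mem ψ.toRingHom he1
      rw [Ideal.map_map, show ψ.toRingHom.comp (algebraMap R S) = algebraMap R Q from ψ.comp_algebraMap,
        show algebraMap R Q = π.toRingHom.comp (algebraMap R B) from π.comp_algebraMap.symm, ← Ideal.map_map] at this
      exact this
    obtain ⟨b, hb, hbe⟩ := (Ideal.mem_map_iff_of_surjective _ hπ).1 h1
    have hu : IsUnit (1 - b) := by
      refine (IsLocalRing.isUnit_or_isUnit_one_sub_self b).resolve_left fun hb' => ?_
      have hle : (maximalIdeal R).map (algebraMap R B) ≠ ⊤ := fun h =>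
        pow_notMem hB 0 (h ▸ Submodule.mem_top)
      exact hle (Ideal.eq_top_of_isUnit_mem _ hb hb')
    have hidem : IsIdempotentElem (ψ (1 - e)) := he.one_sub.map _
    have hu' : IsUnit (1 - ψ (1 - e)) := by
      rw [← hbe]
      show IsUnit (1 - π.toRingHom b)
      rw [← map_one π.toRingHom, ← map_sub]; exact hu.map _
    refine hu'.mul_left_eq_zero.1 ?_
    rw [mul_sub, mul_one, hidem.eq, sub_self]
  let h : (S ⧸ Ideal.span {1 - e}) →ₐ[R] Q := Ideal.Quotient.liftₐ _ ψ fun z hz => by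
    obtain ⟨z, rfl⟩ := Ideal.mem_span_singleton'.1 hz
    rw [map_mul, hψe, mul_zero]
  have hfac : h.toRingHom.comp γ = π.toRingHom := by
    haveI := hB.1
    haveI hQ : HenselianRing (B ⧸ RingHom.ker π.toRingHom)
        (((Ideal.span {(X : R[X])}).map (algebraMap R[X] B)).map (Ideal.Quotient.mk _)) :=
      Hensel.henselianRing_quotient _ _
    let ε := RingHom.quotientKerEquivOfSurjective (f := π.toRingHom) hπ
    have key : ε.symm.toRingHom.comp (h.toRingHom.comp γ) = ε.symm.toRingHom.comp π.toRingHom := by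
      refine (hB.2 (B ⧸ RingHom.ker π.toRingHom)
        (((Ideal.span {(X : R[X])}).map (algebraMap R[X] B)).map (Ideal.Quotient.mk _))
        (ε.symm.toRingHom.comp (π.toRingHom.comp (algebraMap R[X] B))) hQ ?_).unique ?_ ?_
      · rw [show ε.symm.toRingHom.comp (π.toRingHom.comp (algebraMap R[X] B)) =
          (Ideal.Quotient.mk _).comp (algebraMap R[X] B) from RingHom.ext fun q => by
            show ε.symm (π (algebraMap R[X] B q)) = _
            rw [RingEquiv.symm_apply_eq]
            exact (RingHom.kerLift_mk π.toRingHom _).symm, ← Ideal.map_map]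
      · rw [RingHom.comp_assoc, RingHom.comp_assoc, hγ, ha]
        refine RingHom.ext fun p => ?_
        show ε.symm (ψ (ρ (algebraMap R[X] U p))) = ε.symm (π (algebraMap R[X] B p))
        rw [hψ, AlgHom.commutes]
      · rw [RingHom.comp_assoc]
    exact RingHom.ext fun b => ε.symm.injective (RingHom.congr_fun key b)
  refine Module.Finite.of_surjective h.toLinearMap fun y => ?_
  obtain ⟨b, rfl⟩ := hπ y
  exact ⟨γ b, RingHom.congr_fun hfac b⟩

include hB in
/-- The quotient by an element of finite order is finite. -/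
theorem finite_quotient_of_nbhd {U : Type u} [CommRing U] [Algebra R[X] U] [Algebra R U] [IsScalarTower R R[X] U]
    [Algebra.FiniteType R U] (φ : U →ₐ[R[X]] B) (s g : U) (k : ℕ) (c : R)
    (hmodX : ∀ u : U, ∃ r : R, u - algebraMap R U r ∈ Ideal.span {algebraMap R[X] U X})
    (hgs : s - (algebraMap R[X] U X) ^ k * g ∈ (maximalIdeal R).map (algebraMap R U))
    (hc : g - algebraMap R U c ∈ Ideal.span {algebraMap R[X] U X}) (hcu : IsUnit c) (hgu : IsUnit (φ g)) :
    Module.Finite R (B ⧸ Ideal.span {φ s}) := by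
  classical
  let V := Localization.Away g
  obtain ⟨Is, hIs⟩ : ∃ I : Ideal V, I = Ideal.span {algebraMap U V s} := ⟨_, rfl⟩
  haveI : Algebra.FiniteType R V := Algebra.FiniteType.trans (S := U) inferInstance inferInstance
  haveI : Algebra.FiniteType R (V ⧸ Is) :=
    Algebra.FiniteType.of_surjective (Ideal.Quotient.mkₐ R Is) Ideal.Quotient.mk_surjective
  obtain ⟨ρ, hρ⟩ : ∃ ρ : U →ₐ[R] V ⧸ Is, ∀ u, ρ u = Ideal.Quotient.mk Is (algebraMap U V u) :=
    ⟨(Ideal.Quotient.mkₐ R Is).comp (IsScalarTower.toAlgHom R U V), fun _ => rfl⟩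
  have hρs : ρ s = 0 := by
    rw [hρ, Ideal.Quotient.eq_zero_iff_mem, hIs]
    exact Ideal.mem_span_singleton_self _
  have hρg : IsUnit (ρ g) := by
    rw [hρ]
    exact (IsLocalization.Away.algebraMap_isUnit (S := V) g).map _
  have hxk : ρ (algebraMap R[X] U X) ^ k ∈ (maximalIdeal R).map (algebraMap R (V ⧸ Is)) := by
    have h1 := Ideal.mem_map_of_mem ρ.toRingHom hgs
    rw [Ideal.map_map, show ρ.toRingHom.comp (algebraMap R U) = algebraMap R _ from ρ.comp_algebraMap] at h1
    change ρ (s - (algebraMap R[X] U X) ^ k * g) ∈ _ at h1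
    rw [map_sub, hρs, zero_sub, map_mul, map_pow, neg_mem_iff] at h1
    exact (Ideal.mul_unit_mem_iff_mem _ hρg).1 h1
  have hfinT := finite_red ρ (maximalIdeal R) (algebraMap R[X] U X) g k hmodX hc hcu hxk fun y => by
    obtain ⟨y, rfl⟩ := Ideal.Quotient.mk_surjective y
    obtain ⟨⟨u, ⟨_, l, rfl⟩⟩, hy⟩ := IsLocalization.surj (Submonoid.powers g) y
    refine ⟨u, l, ?_⟩
    rw [hρ, hρ, ← map_pow, ← map_pow, ← map_mul]
    exact congrArg (Ideal.Quotient.mk Is) hy
  let ψ : V →ₐ[R] B ⧸ Ideal.span {φ s} := IsLocalization.liftAlgHom (M := Submonoid.powers g)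
    (f := ((Ideal.Quotient.mkₐ R (Ideal.span {φ s})).comp (φ.restrictScalars R))) (by
      rintro ⟨_, l, rfl⟩
      exact (((hgu.pow l).map (Ideal.Quotient.mk (Ideal.span {φ s}))) : _) |> fun h => by
        simpa [map_pow] using h)
  have hψU : ∀ u, ψ (algebraMap U V u) = Ideal.Quotient.mk _ (φ u) := fun u => IsLocalization.lift_eq _ u
  obtain ⟨ψS, hψS⟩ : ∃ ψS : V ⧸ Is →ₐ[R] B ⧸ Ideal.span {φ s}, ∀ v, ψS (Ideal.Quotient.mk Is v) = ψ v :=
    ⟨Ideal.Quotient.liftₐ Is ψ fun v hv => by
      rw [hIs] at hv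
      obtain ⟨z, rfl⟩ := Ideal.mem_span_singleton'.1 hv
      rw [map_mul, hψU, Ideal.Quotient.eq_zero_iff_mem.2 (Ideal.mem_span_singleton_self (φ s)), mul_zero],
      fun v => rfl⟩
  exact finite_of_model hB (Ideal.Quotient.mkₐ R (Ideal.span {φ s})) Ideal.Quotient.mk_surjective ρ ψS φ
    (fun u => by rw [hρ, hψS, hψU]; rfl) hfinT k hxk

include hB in
/-- An element outside `mB` is a power of `t` times a unit modulo `m`, and cuts out a finite algebra. -/
theorem exists_order {f : B} (hf : f ∉ (maximalIdeal R).map (algebraMap R B)) :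
    ∃ (k : ℕ) (w : B), IsUnit w ∧ f - τ ^ k * w ∈ (maximalIdeal R).map (algebraMap R B) ∧
      Module.Finite R (B ⧸ Ideal.span {f}) := by
  classical
  obtain ⟨U, _, _, hUet, hU, φ, s, hφs⟩ := Hensel.exists_of_isPairHenselization _ hB f
  obtain ⟨ε, hεr, hεX, hεsub, hεu⟩ := exists_constant hB
  letI : Algebra R U := ((algebraMap R[X] U).comp C).toAlgebra
  haveI : IsScalarTower R R[X] U := IsScalarTower.of_algebraMap_eq fun _ => rfl
  haveI : Algebra.FiniteType R U := Algebra.FiniteType.trans (S := R[X]) inferInstance inferInstance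
  let φ' : U →ₐ[R] B := φ.restrictScalars R
  let m := maximalIdeal R
  let J : Ideal U := m.map (algebraMap R U)
  let x : U := algebraMap R[X] U X
  have hφx : φ x = τ := φ.commutes X
  have hmodX : ∀ u : U, ∃ r : R, u - algebraMap R U r ∈ Ideal.span {x} := fun u => by
    obtain ⟨a, ha⟩ := hU.2 (Ideal.Quotient.mk _ u)
    obtain ⟨a, rfl⟩ := Ideal.Quotient.mk_surjective a
    rw [Ideal.quotientMap_mk, eq_comm, Ideal.Quotient.eq, map_span_X] at ha
    refine ⟨a.coeff 0, ?_⟩
    have h2 : algebraMap R[X] U a - algebraMap R U (a.coeff 0) ∈ Ideal.span {x} := by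
      rw [IsScalarTower.algebraMap_apply R R[X] U, ← map_sub, Ideal.mem_span_singleton]
      exact map_dvd _ X_dvd_sub_C
    have := add_mem ha h2
    rwa [sub_add_sub_cancel] at this
  have hφJ : ∀ u ∈ J, φ u ∈ m.map (algebraMap R B) := fun u hu => by
    have := Ideal.mem_map_of_mem φ'.toRingHom hu
    rw [Ideal.map_map, show φ'.toRingHom.comp (algebraMap R U) = algebraMap R B from φ'.comp_algebraMap] at this
    exact this
  let W := U ⧸ J
  haveI : IsNoetherianRing W := by
    let : Algebra (R ⧸ m) W := (Ideal.quotientMap _ (algebraMap R U) Ideal.le_comap_map).toAlgebra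
    have : IsScalarTower R (R ⧸ m) W := .of_algebraMap_eq fun _ => rfl
    have : Algebra.FiniteType (R ⧸ m) W := Algebra.FiniteType.of_restrictScalars_finiteType R _ _
    let := Ideal.Quotient.field m
    exact Algebra.FiniteType.isNoetherianRing (R ⧸ m) _
  let π := Ideal.Quotient.mk J
  -- the order of `s` at the origin of the closed fibre
  have hex : ∃ k, π s ∉ Ideal.span {π x} ^ (k + 1) := by
    by_contra! hall
    have hmem : π s ∈ (⨅ i : ℕ, Ideal.span {π x} ^ i • ⊤ : Submodule W W) := by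
      refine (Submodule.mem_iInf _).2 fun i => ?_
      rw [smul_eq_mul, Ideal.mul_top]
      exact Ideal.pow_le_pow_right i.le_succ (hall i)
    obtain ⟨⟨w, hw⟩, hws⟩ := (Ideal.mem_iInf_smul_pow_eq_bot_iff _ _).1 hmem
    obtain ⟨z, hz⟩ := Ideal.mem_span_singleton'.1 hw
    obtain ⟨z, rfl⟩ := Ideal.Quotient.mk_surjective z
    have h1 : (1 - z * x) * s ∈ J := by
      rw [← Ideal.Quotient.eq_zero_iff_mem, map_mul, map_sub, map_one, map_mul, sub_mul, one_mul]
      show π s - π z * π x * π s = 0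
      rw [hz]
      exact sub_eq_zero.2 hws.symm
    have h2 := hφJ _ h1
    rw [map_mul, hφs] at h2
    have hu : IsUnit (φ (1 - z * x)) := by
      rw [hεu, map_sub, map_one, map_mul, hφx, map_sub, map_one, map_mul, hεX, mul_zero, sub_zero]
      exact isUnit_one
    exact hf ((Ideal.unit_mul_mem_iff_mem _ hu).1 h2)
  let k := Nat.find hex
  obtain ⟨g, hg⟩ : ∃ g : U, π s = π g * π x ^ k := by
    have : π s ∈ Ideal.span {π x} ^ k := by
      rcases Nat.eq_zero_or_pos k with h | h
      · rw [h, pow_zero, Ideal.one_eq_top]; exact Submodule.mem_top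
      · have := Nat.find_min hex (show k - 1 < k by omega)
        rw [not_not, Nat.sub_add_cancel h] at this
        exact this
    rw [Ideal.span_singleton_pow, Ideal.mem_span_singleton'] at this
    obtain ⟨w, hw⟩ := this
    obtain ⟨g, rfl⟩ := Ideal.Quotient.mk_surjective w
    exact ⟨g, hw.symm⟩
  obtain ⟨c, hc⟩ := hmodX g
  have hcu : IsUnit c := by
    by_contra hn
    refine Nat.find_spec hex ?_
    have : π g ∈ Ideal.span {π x} := by
      obtain ⟨z, hz⟩ := Ideal.mem_span_singleton'.1 hc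
      have h0 : π (algebraMap R U c) = 0 :=
        Ideal.Quotient.eq_zero_iff_mem.2 (Ideal.mem_map_of_mem _ ((mem_maximalIdeal c).2 hn))
      exact Ideal.mem_span_singleton'.2 ⟨π z, by rw [← map_mul, hz, map_sub, h0, sub_zero]⟩
    have h3 := Ideal.mul_mem_mul this (Ideal.pow_mem_pow (Ideal.mem_span_singleton_self (π x)) k)
    rwa [← hg, ← pow_succ'] at h3
  have hgs : s - x ^ k * g ∈ J := by
    rw [← Ideal.Quotient.eq_zero_iff_mem, map_sub, map_mul, map_pow]
    show π s - π x ^ k * π g = 0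
    rw [hg]; ring
  have hgu : IsUnit (φ g) := by
    obtain ⟨z, hz⟩ := Ideal.mem_span_singleton'.1 hc
    rw [hεu, show φ g = φ z * τ + algebraMap R B c from by
      rw [← hφx, ← map_mul, hz, map_sub, show φ (algebraMap R U c) = algebraMap R B c from φ'.commutes c,
        sub_add_cancel],
      map_add, map_mul, hεX, mul_zero, zero_add, hεr]
    exact hcu
  refine ⟨k, φ g, hgu, ?_, ?_⟩
  · have := hφJ _ hgs
    rwa [map_sub, map_mul, map_pow, hφs, hφx] at this
  rw [← hφs]
  exact finite_quotient_of_nbhd hB φ s g k c hmodX hgs hc hcu hgu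

include hB in
/-- `t`-division by an element of order `k`. -/
theorem exists_division {f w : B} {k : ℕ} (hw : IsUnit w)
    (hfk : f - τ ^ k * w ∈ (maximalIdeal R).map (algebraMap R B)) (hfin : Module.Finite R (B ⧸ Ideal.span {f}))
    (b : B) : ∃ p ∈ degreeLT R k, b - algebraMap R[X] B p ∈ Ideal.span {f} := by
  classical
  let M := B ⧸ Ideal.span {f}
  let L : R[X] →ₗ[R] M :=
    ((Ideal.Quotient.mkₐ R (Ideal.span {f})).comp (IsScalarTower.toAlgHom R R[X] B)).toLinearMap
  let N : Submodule R M := (degreeLT R k).map L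
  have hiter : ∀ j, ∀ b : B, ∃ p ∈ degreeLT R j, ∃ b', b = algebraMap R[X] B p + τ ^ j * b' := by
    intro j
    induction j with
    | zero => exact fun b => ⟨0, zero_mem _, b, by simp⟩
    | succ j ih =>
      intro b
      obtain ⟨p, hp, b', he⟩ := ih b
      obtain ⟨r, hr⟩ := surjective_mod_X hB b'
      obtain ⟨z, hz⟩ := Ideal.mem_span_singleton'.1 hr
      refine ⟨p + C r * X ^ j, add_mem (degreeLT_mono j.le_succ hp) ?_, z, ?_⟩
      · rw [mem_degreeLT]
        exact lt_of_le_of_lt (degree_C_mul_X_pow_le _ _) (by exact_mod_cast j.lt_succ_self)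
      · rw [map_add, map_mul, map_pow, algebraMap_C, he]
        linear_combination τ ^ j * hz.symm
  have hN : (⊤ : Submodule R M) ≤ N ⊔ maximalIdeal R • ⊤ := by
    intro y _
    obtain ⟨b, rfl⟩ := Ideal.Quotient.mk_surjective y
    obtain ⟨p, hp, b', he⟩ := hiter k b
    refine Submodule.mem_sup.2 ⟨_, Submodule.mem_map_of_mem hp, Ideal.Quotient.mk _ (τ ^ k * b'), ?_, ?_⟩
    · rw [Ideal.smul_top_eq_map, Submodule.restrictScalars_mem, IsScalarTower.algebraMap_eq R B M, ← Ideal.map_map]
      have e : τ ^ k * b' = f * (↑hw.unit⁻¹ * b') - (f - τ ^ k * w) * (↑hw.unit⁻¹ * b') := by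
        have := hw.mul_val_inv
        linear_combination (-(τ ^ k * b')) * this
      rw [e, map_sub, map_mul, Ideal.Quotient.eq_zero_iff_mem.2 (Ideal.mem_span_singleton_self f), zero_mul,
        zero_sub]
      exact neg_mem (Ideal.mem_map_of_mem _ (Ideal.mul_mem_right _ _ hfk))
    · show Ideal.Quotient.mk _ (algebraMap R[X] B p) + _ = _
      rw [← map_add, ← he]
  have htop : (⊤ : Submodule R M) ≤ N :=
    Submodule.le_of_le_smul_of_le_jacobson_bot Module.Finite.fg_top (maximalIdeal_le_jacobson _) hN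
  obtain ⟨p, hp, he⟩ := htop (Submodule.mem_top (x := Ideal.Quotient.mk (Ideal.span {f}) b))
  exact ⟨p, hp, Ideal.Quotient.eq.1 he.symm⟩

include hB in
/-- Existence of the Weierstrass polynomial. -/
theorem exists_prep {f : B} (hf : f ∉ (maximalIdeal R).map (algebraMap R B)) :
    ∃ (P : R[X]) (v : Bˣ), P.Monic ∧ (∀ i, i < P.natDegree → P.coeff i ∈ maximalIdeal R) ∧
      f = algebraMap R[X] B P * v := by
  classical
  haveI := isLocalRing hB
  obtain ⟨k, w, hw, hfk, hfin⟩ := exists_order hB hf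
  obtain ⟨p, hp, hpe⟩ := exists_division hB hw hfk hfin (τ ^ k)
  rw [mem_degreeLT] at hp
  obtain ⟨v, hv⟩ := Ideal.mem_span_singleton'.1 hpe
  let P : R[X] := X ^ k - p
  have hP : P.Monic := monic_X_pow_sub hp
  have hPd : P.natDegree = k := by
    refine natDegree_eq_of_degree_eq_some ?_
    rw [degree_sub_eq_left_of_degree_lt (by rwa [degree_X_pow]), degree_X_pow]
  have hPv : algebraMap R[X] B P = v * f := by rw [map_sub, map_pow, hv]
  obtain ⟨ρ, hρ, hρm⟩ := exists_trunc hB (k + 1)
  have hρX : ρ τ = Ideal.Quotient.mk _ X := by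
    rw [← RingHom.comp_apply, hρ]; simp
  have hρf : ρ f = Ideal.Quotient.mk _ X ^ k * ρ w := by
    have := hρm _ hfk
    rwa [map_sub, map_mul, map_pow, hρX, sub_eq_zero] at this
  have hρP : Ideal.Quotient.mk _ (P.map (residue R)) = ρ v * (Ideal.Quotient.mk _ X ^ k * ρ w) := by
    rw [← hρf, ← map_mul, ← hPv, ← RingHom.comp_apply, hρ]
    rfl
  obtain ⟨z, hz⟩ := Ideal.Quotient.mk_surjective (ρ v * ρ w)
  have hcong : (X : (ResidueField R)[X]) ^ (k + 1) ∣ P.map (residue R) - z * X ^ k := by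
    rw [← Ideal.mem_span_singleton, ← Ideal.Quotient.eq_zero_iff_mem, map_sub, map_mul, hz, map_pow, hρP]
    ring
  rw [X_pow_dvd_iff] at hcong
  have hlow : ∀ i, i < P.natDegree → P.coeff i ∈ maximalIdeal R := fun i hi => by
    rw [hPd] at hi
    have := hcong i (by omega)
    rw [coeff_sub, coeff_map, coeff_mul_X_pow', if_neg (by omega), sub_zero, residue_eq_zero_iff] at this
    exact this
  have hz0 : z.coeff 0 = 1 := by
    have := hcong k (by omega)
    rw [coeff_sub, coeff_map, coeff_mul_X_pow', if_pos le_rfl, Nat.sub_self,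
      show P.coeff k = 1 from hPd ▸ hP, map_one, sub_eq_zero] at this
    exact this.symm
  have hu : IsUnit (v * w) := by
    by_contra hn
    obtain ⟨ε, hεr, hεX, hεsub, hεu⟩ := exists_constant hB
    rw [hεu] at hn
    obtain ⟨a, ha⟩ := Ideal.mem_span_singleton'.1 (hεsub (v * w))
    have h1 : ρ (v * w) = ρ a * Ideal.Quotient.mk _ X := by
      have h2 := congrArg ρ ha
      rw [map_mul, hρX, map_sub, hρm _ (Ideal.mem_map_of_mem _ ((mem_maximalIdeal _).2 hn)), sub_zero] at h2
      exact h2.symm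
    obtain ⟨a', ha'⟩ := Ideal.Quotient.mk_surjective (ρ a)
    rw [map_mul, ← hz, ← ha', ← map_mul, Ideal.Quotient.eq, Ideal.mem_span_singleton, X_pow_dvd_iff] at h1
    have h3 := h1 0 (by omega)
    rw [coeff_sub, mul_coeff_zero, coeff_X_zero, mul_zero, sub_zero, hz0] at h3
    exact one_ne_zero h3
  have hvu : IsUnit v := isUnit_of_mul_isUnit_left hu
  exact ⟨P, hvu.unit⁻¹, hP, hlow, by rw [hPv, mul_comm, ← mul_assoc, IsUnit.val_inv_mul, one_mul]⟩

include hB in
/-- Membership in the ideal of a distinguished polynomial. -/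
theorem dvd_of_mem_span {P : R[X]} (hP : P.Monic) (hlow : ∀ i, i < P.natDegree → P.coeff i ∈ maximalIdeal R)
    {q : R[X]} (hq : algebraMap R[X] B q ∈ Ideal.span {algebraMap R[X] B P}) : P ∣ q := by
  let D := R[X] ⧸ Ideal.span {P}
  haveI : Module.Finite R D := hP.finite_quotient
  haveI : Algebra.IsIntegral R D := Algebra.IsIntegral.of_finite R D
  haveI hHD : HenselianRing D ((maximalIdeal R).map (algebraMap R D)) :=
    Hensel.henselianRing_of_isIntegral' (maximalIdeal R) D
  let mk : R[X] →+* D := Ideal.Quotient.mk _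
  have hrad : mk X ∈ ((maximalIdeal R).map (algebraMap R D)).radical := by
    refine ⟨P.natDegree, ?_⟩
    have e0 : mk P = 0 := Ideal.Quotient.eq_zero_iff_mem.2 (Ideal.mem_span_singleton_self P)
    have e := (congrArg mk hP.as_sum).symm.trans e0
    rw [map_add, map_pow, map_sum, add_eq_zero_iff_eq_neg] at e
    refine (congrArg (· ∈ (maximalIdeal R).map (algebraMap R D)) e).mpr ?_
    refine neg_mem (Ideal.sum_mem _ fun i hi => ?_)
    rw [map_mul]
    exact Ideal.mul_mem_right _ _ (Ideal.mem_map_of_mem (algebraMap R D) (hlow i (Finset.mem_range.1 hi)))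
  haveI := (Hensel.henselianRing_radical_iff ((maximalIdeal R).map (algebraMap R D))).2 hHD
  haveI hHt : HenselianRing D (Ideal.span {mk X}) :=
    Hensel.henselianRing_of_le (J := ((maximalIdeal R).map (algebraMap R D)).radical)
      ((Ideal.span_singleton_le_iff_mem _).2 hrad)
  obtain ⟨γ, hγ, -⟩ := hB.2 D (Ideal.span {mk X}) mk hHt (map_span_X mk).le
  obtain ⟨z, hz⟩ := Ideal.mem_span_singleton'.1 hq
  have := congrArg γ hz
  rw [map_mul, ← RingHom.comp_apply, hγ, ← RingHom.comp_apply γ, hγ] at this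
  rw [Ideal.Quotient.eq_zero_iff_mem.2 (Ideal.mem_span_singleton_self P), mul_zero] at this
  exact Ideal.mem_span_singleton.1 (Ideal.Quotient.eq_zero_iff_mem.1 this.symm)

include hB in
/-- The remainder of division by a distinguished polynomial. -/
theorem surjective_mod_distinguished {P : R[X]} (hP : P.Monic)
    (hlow : ∀ i, i < P.natDegree → P.coeff i ∈ maximalIdeal R) (b : B) :
    ∃ q ∈ degreeLT R P.natDegree, b - algebraMap R[X] B q ∈ Ideal.span {algebraMap R[X] B P} := by
  classical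
  have hfk : algebraMap R[X] B P - τ ^ P.natDegree * 1 ∈ (maximalIdeal R).map (algebraMap R B) := by
    rw [mul_one]
    suffices h : algebraMap R[X] B (X ^ P.natDegree + ∑ i ∈ Finset.range P.natDegree, C (P.coeff i) * X ^ i) -
        τ ^ P.natDegree ∈ (maximalIdeal R).map (algebraMap R B) by rwa [← hP.as_sum] at h
    rw [map_add, map_pow, add_sub_cancel_left, map_sum]
    refine Ideal.sum_mem _ fun i hi => ?_
    rw [map_mul, algebraMap_C]
    exact Ideal.mul_mem_right _ _ (Ideal.mem_map_of_mem _ (hlow i (Finset.mem_range.1 hi)))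
  have hf : algebraMap R[X] B P ∉ (maximalIdeal R).map (algebraMap R B) := fun h => pow_notMem hB P.natDegree (by
    have := sub_mem h hfk
    rwa [mul_one, sub_sub_cancel] at this)
  obtain ⟨-, -, -, -, hfin⟩ := exists_order hB hf
  exact exists_division hB isUnit_one hfk hfin b

end Groth.Agent.Weierstrass7
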